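import Mathlib
import Cfsg.Agent.Lib.Suzuki.Simple
import Cfsg.Agent.Lib.Suzuki.AutSz

/-!
A central extension of `Sz(8)` by `F/{0,1}`: the corestriction of an invariant cocycle of the Borel
subgroup.
-/

set_option autoImplicit false
set_option linter.unusedSectionVars false

namespace Cfsg.Agent.SchurSzEight

open Cfsg.Agent.Suzuki

universe u

variable {F : Type u} [Field F] [Fintype F] (D : Dat F 1) (hF : Fintype.card F = 8)

/-- The subgroup `{0,1}`. -/
abbrev unitLine (F : Type u) [Field F] : AddSubgroup F := AddSubgroup.zmultiples (1 : F)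

/-- The coefficients. -/
abbrev V (F : Type u) [Field F] : Type u := F ⧸ unitLine F

/-- The projection onto the coefficients. -/
abbrev pr {F : Type u} [Field F] : F →+ V F := QuotientAddGroup.mk' (unitLine F)

include D

theorem theta_four (x : F) : D.θ x = x ^ 4 := by rw [D.pow]; norm_num

theorem hF' (hF : Fintype.card F = 8) : Fintype.card F = 2 ^ (2 * 1 + 1) := by rw [hF]; norm_num

include hF

omit D in
theorem pow_eight (x : F) : x ^ 8 = x := hF ▸ FiniteField.pow_card x

omit D in
theorem pow_seven {x : F} (hx : x ≠ 0) : x ^ 7 = 1 := by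
  have := FiniteField.pow_card_sub_one_eq_one x hx
  rwa [hF] at this

theorem pr_trace (w : F) : pr (w + w ^ 2 + w ^ 4) = 0 := by
  have htwo : (2 : F) = 0 := D.two
  set s := w + w ^ 2 + w ^ 4 with hs
  have h : s * s = s := by
    have h8 := pow_eight hF w
    rw [hs]
    linear_combination (w ^ 3 + w ^ 5 + w ^ 6) * htwo + h8
  have : s = 0 ∨ s = 1 := by
    rcases eq_or_ne s 0 with h0 | h0
    · exact Or.inl h0
    · exact Or.inr (mul_left_cancel₀ h0 (by rw [h, mul_one]))
  rcases this with e | e <;> rw [e]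
  · exact map_zero _
  · exact (QuotientAddGroup.eq_zero_iff _).2 (AddSubgroup.mem_zmultiples _)

theorem add_self_V (v : V F) : v + v = 0 := by
  obtain ⟨x, rfl⟩ := QuotientAddGroup.mk'_surjective (unitLine F) v
  rw [← map_add, D.add_self, map_zero]

omit D hF in
/-- The polynomial of the cocycle on a Sylow 2-subgroup. -/
def phi (a b c : F) : F := b ^ 4 * c + a ^ 5 * c ^ 2 + a * c ^ 6

omit D in
theorem phi_scale {t : F} (ht : t ≠ 0) (a b c : F) : phi (t * a) (t ^ 5 * b) (t * c) = phi a b c := by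
  have h7 := pow_seven hF ht
  unfold phi
  linear_combination (((t ^ 7) ^ 2 + t ^ 7 + 1) * b ^ 4 * c + a ^ 5 * c ^ 2 + a * c ^ 6) * h7

theorem phi_cocycle (a b C Dd E : F) :
    pr (phi C Dd E) + pr (phi (a + C) (b + Dd + a ^ 4 * C) E) + pr (phi a b (C + E))
      + pr (phi a b C) = 0 := by
  have htwo : (2 : F) = 0 := D.two
  haveI := D.char2
  have ha := pow_eight hF a
  have hC := pow_eight hF C
  rw [← map_add, ← map_add, ← map_add]
  have key : phi C Dd E + phi (a + C) (b + Dd + a ^ 4 * C) E + phi a b (C + E) + phi a b C =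
      (a ^ 2 * C ^ 4 * E) + (a ^ 2 * C ^ 4 * E) ^ 2 + (a ^ 2 * C ^ 4 * E) ^ 4 := by
    have e2 : ∀ x y : F, (x + y) ^ 2 = x ^ 2 + y ^ 2 := fun x y => CharTwo.add_sq x y
    have e4 : ∀ x y : F, (x + y) ^ 4 = x ^ 4 + y ^ 4 := fun x y => by
      rw [show (4 : ℕ) = 2 * 2 from rfl, pow_mul, pow_mul, pow_mul, e2, e2]
    have a16 : a ^ 16 = a ^ 2 := by rw [show (16 : ℕ) = 8 * 2 from rfl, pow_mul, ha]
    have C16 : C ^ 16 = C ^ 2 := by rw [show (16 : ℕ) = 8 * 2 from rfl, pow_mul, hC]
    simp only [phi, e4, show ∀ x : F, x ^ 5 = x ^ 4 * x from fun x => pow_succ x 4,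
      show ∀ x : F, x ^ 6 = x ^ 4 * x ^ 2 from fun x => pow_add x 4 2, e2, mul_pow, ← pow_mul]
    norm_num only [ha, hC, a16, C16]
    linear_combination (Dd ^ 4 * E + b ^ 4 * E + b ^ 4 * C + a ^ 4 * a * E ^ 2
      + C ^ 4 * C * E ^ 2 + a * E ^ 4 * E ^ 2 + C * E ^ 4 * E ^ 2 + a ^ 4 * a * C ^ 2
      + a * C ^ 4 * C ^ 2 + a * C ^ 4 * E ^ 2) * htwo
  rw [key]
  exact pr_trace D hF _

omit hF in
/-- Uniqueness of the coordinates on the point stabiliser. -/
theorem borel_inj {a b a' b' : F} {u u' : Fˣ} (h : gT D a b * gH D u = gT D a' b' * gH D u') :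
    a = a' ∧ b = b' ∧ u = u' := by
  have h1 := congrArg (fun g : Cfsg.Sz F 1 => g • oP D 0 0) h
  simp only [mul_smul, gH_oP0, gT_oP, mul_zero, add_zero, zero_add] at h1
  have h2 := pP_inj D (congrArg Subtype.val h1)
  obtain ⟨rfl, rfl⟩ := h2
  exact ⟨rfl, rfl, gH_inj D (mul_left_cancel h)⟩

open Classical in
/-- Coordinates on the point stabiliser. -/
noncomputable def crd (g : Cfsg.Sz F 1) : F × F × Fˣ :=
  if h : g • oI D = oI D then
    let e := gfix_inf D (hF' D hF) h
    ⟨e.choose, e.choose_spec.choose, e.choose_spec.choose_spec.choose⟩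
  else ⟨0, 0, 1⟩

theorem crd_eq (a b : F) (u : Fˣ) : crd D hF (gT D a b * gH D u) = (a, b, u) := by
  have h : (gT D a b * gH D u) • oI D = oI D := by rw [mul_smul, gH_oI, gT_oI]
  rw [crd, dif_pos h]
  set e := gfix_inf D (hF' D hF) h
  obtain ⟨h1, h2, h3⟩ := borel_inj D e.choose_spec.choose_spec.choose_spec
  exact Prod.ext h1.symm (Prod.ext h2.symm h3.symm)

/-- The cocycle on the point stabiliser. -/
noncomputable def cob (g h : Cfsg.Sz F 1) : V F :=
  pr (phi (crd D hF g).1 (crd D hF g).2.1 (((crd D hF g).2.2 : F) ^ 2 * (crd D hF h).1))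

omit hF in
theorem borel_mul (a b c d : F) (u v : Fˣ) :
    gT D a b * gH D u * (gT D c d * gH D v) =
      gT D (a + (u : F) ^ 2 * c) (b + D.θ u ^ 2 * (u : F) ^ 2 * d + D.θ a * ((u : F) ^ 2 * c))
        * gH D (u * v) := by
  rw [show gT D a b * gH D u * (gT D c d * gH D v) =
    gT D a b * (gH D u * gT D c d * (gH D u)⁻¹) * (gH D u * gH D v) by group, gH_gT, gT_mul, gH_mul]

theorem cob_cocycle {g h k : Cfsg.Sz F 1} (hg : g • oI D = oI D) (hh : h • oI D = oI D)
    (hk : k • oI D = oI D) :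
    cob D hF h k + cob D hF (g * h) k + cob D hF g (h * k) + cob D hF g h = 0 := by
  obtain ⟨a, b, u, rfl⟩ := gfix_inf D (hF' D hF) hg
  obtain ⟨c, d, v, rfl⟩ := gfix_inf D (hF' D hF) hh
  obtain ⟨e, e', w, rfl⟩ := gfix_inf D (hF' D hF) hk
  unfold cob
  rw [borel_mul, borel_mul]
  simp only [crd_eq, Units.val_mul, theta_four D]
  have ht : ((u : F) ^ 2) ≠ 0 := pow_ne_zero _ u.ne_zero
  have key := phi_cocycle D hF a b ((u : F) ^ 2 * c) (((u : F) ^ 2) ^ 5 * d)
    ((u : F) ^ 2 * ((v : F) ^ 2 * e))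
  rw [phi_scale hF ht] at key
  convert key using 1
  ring_nf

/-- The coset representative of a point. -/
noncomputable def rep (p : Cfsg.suzukiOvoid F 1) : Cfsg.Sz F 1 :=
  open Classical in
  if h : p = oI D then 1 else gT D ((o_cases D p).resolve_left h).choose
    ((o_cases D p).resolve_left h).choose_spec.choose * gw D

omit hF in
theorem rep_oI : rep D (oI D) = 1 := by rw [rep, dif_pos rfl]

omit hF in
theorem rep_oP (x y : F) : rep D (oP D x y) = gT D x y * gw D := by
  have h : oP D x y ≠ oI D := fun e => pP_ne_inf D x y (congrArg Subtype.val e)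
  rw [rep, dif_neg h]
  set e := (o_cases D (oP D x y)).resolve_left h
  obtain ⟨h1, h2⟩ := pP_inj D (congrArg Subtype.val e.choose_spec.choose_spec)
  exact congrArg₂ (fun a b => gT D a b * gw D) h1.symm h2.symm

omit hF in
theorem rep_smul (p : Cfsg.suzukiOvoid F 1) : rep D p • oI D = p := by
  rcases o_cases D p with rfl | ⟨x, y, rfl⟩
  · rw [rep_oI, one_smul]
  · rw [rep_oP, mul_smul, gw_oI, gT_oP, mul_zero, add_zero, zero_add, zero_add]

/-- The monomial coordinate. -/
noncomputable def mon (g : Cfsg.Sz F 1) (p : Cfsg.suzukiOvoid F 1) : Cfsg.Sz F 1 :=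
  (rep D (g • p))⁻¹ * g * rep D p

omit hF in
theorem mon_fix (g : Cfsg.Sz F 1) (p : Cfsg.suzukiOvoid F 1) : mon D g p • oI D = oI D := by
  rw [mon, mul_smul, mul_smul, rep_smul, inv_smul_eq_iff, rep_smul]

omit hF in
theorem mon_mul (g h : Cfsg.Sz F 1) (p : Cfsg.suzukiOvoid F 1) :
    mon D (g * h) p = mon D g (h • p) * mon D h p := by
  simp only [mon, mul_smul]
  group

omit hF in
theorem mon_one (p : Cfsg.suzukiOvoid F 1) : mon D 1 p = 1 := by simp [mon]

omit hF in
theorem mon_gT_oI (a b : F) : mon D (gT D a b) (oI D) = gT D a b := by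
  rw [mon, gT_oI, rep_oI]; group

omit hF in
theorem mon_gT_oP (a b x y : F) : mon D (gT D a b) (oP D x y) = 1 := by
  rw [mon, gT_oP, rep_oP, rep_oP,
    show gT D (x + a) (y + D.θ a * x + b) = gT D a b * gT D x y by
      rw [gT_mul]; congr 1 <;> ring]
  group

theorem crd_gT (a b : F) : crd D hF (gT D a b) = (a, b, 1) := by
  simpa [gH_one] using crd_eq D hF a b 1

theorem crd_one : crd D hF (1 : Cfsg.Sz F 1) = (0, 0, 1) := by
  simpa [gT_zero] using crd_gT D hF 0 0

theorem cob_one_left (g : Cfsg.Sz F 1) : cob D hF 1 g = 0 := by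
  rw [cob, crd_one]; simp [phi]

theorem cob_one_right (g : Cfsg.Sz F 1) : cob D hF g 1 = 0 := by
  rw [cob, crd_one]; simp [phi]

/-- The corestricted cocycle. -/
noncomputable def cor (g h : Cfsg.Sz F 1) : V F :=
  letI := Fintype.ofFinite (Cfsg.suzukiOvoid F 1)
  ∑ p : Cfsg.suzukiOvoid F 1, cob D hF (mon D g (h • p)) (mon D h p)

theorem cor_one_left (g : Cfsg.Sz F 1) : cor D hF 1 g = 0 := by
  refine Finset.sum_eq_zero fun p _ => ?_
  rw [mon_one, cob_one_left]

theorem cor_one_right (g : Cfsg.Sz F 1) : cor D hF g 1 = 0 := by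
  refine Finset.sum_eq_zero fun p _ => ?_
  rw [mon_one, cob_one_right]

theorem cor_cocycle (g h k : Cfsg.Sz F 1) :
    cor D hF h k + cor D hF (g * h) k + cor D hF g (h * k) + cor D hF g h = 0 := by
  letI := Fintype.ofFinite (Cfsg.suzukiOvoid F 1)
  have key : ∀ p : Cfsg.suzukiOvoid F 1,
      cob D hF (mon D h (k • p)) (mon D k p) + cob D hF (mon D (g * h) (k • p)) (mon D k p)
        + cob D hF (mon D g ((h * k) • p)) (mon D (h * k) p)
        + cob D hF (mon D g (h • (k • p))) (mon D h (k • p)) = 0 := by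
    intro p
    rw [mon_mul D g h (k • p), mon_mul D h k p, mul_smul h k p]
    exact cob_cocycle D hF (g := mon D g (h • (k • p))) (h := mon D h (k • p)) (k := mon D k p)
      (mon_fix D _ _) (mon_fix D _ _) (mon_fix D _ _)
  have e := Equiv.sum_comp (MulAction.toPerm k)
    (fun p : Cfsg.suzukiOvoid F 1 => cob D hF (mon D g (h • p)) (mon D h p))
  have total := Finset.sum_eq_zero (s := (Finset.univ : Finset (Cfsg.suzukiOvoid F 1)))
    (fun p _ => key p)
  rw [Finset.sum_add_distrib, Finset.sum_add_distrib, Finset.sum_add_distrib] at total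
  simp only [cor]
  rw [← e]
  exact total

theorem cor_gT (a b c d : F) : cor D hF (gT D a b) (gT D c d) = pr (phi a b c) := by
  letI := Fintype.ofFinite (Cfsg.suzukiOvoid F 1)
  unfold cor
  rw [Finset.sum_eq_single (oI D)]
  · rw [gT_oI, mon_gT_oI, mon_gT_oI, cob, crd_gT, crd_gT]
    simp
  · intro p _ hp
    obtain ⟨x, y, rfl⟩ := (o_cases D p).resolve_left hp
    rw [mon_gT_oP D c d x y, cob_one_right]
  · exact fun h => absurd (Finset.mem_univ _) h

/-- The carrier of the extension. -/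
@[ext] structure Ext (D : Dat F 1) (hF : Fintype.card F = 8) : Type u where
  /-- image -/
  img : Cfsg.Sz F 1
  /-- central part -/
  cen : V F

variable {D hF}

noncomputable instance : Group (Ext D hF) where
  mul x y := ⟨x.img * y.img, x.cen + y.cen + cor D hF x.img y.img⟩
  one := ⟨1, 0⟩
  inv x := ⟨x.img⁻¹, x.cen + cor D hF x.img⁻¹ x.img⟩
  mul_assoc x y z := by
    refine Ext.ext (mul_assoc _ _ _) ?_
    show x.cen + y.cen + cor D hF x.img y.img + z.cen + cor D hF (x.img * y.img) z.img =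
      x.cen + (y.cen + z.cen + cor D hF y.img z.img) + cor D hF x.img (y.img * z.img)
    have h := cor_cocycle D hF x.img y.img z.img
    have h2 := add_self_V D hF
    have e := h2 (cor D hF y.img z.img)
    have e' := h2 (cor D hF x.img (y.img * z.img))
    linear_combination (norm := abel) h - e - e'
  one_mul x := by
    refine Ext.ext (one_mul _) ?_
    show 0 + x.cen + cor D hF 1 x.img = x.cen
    rw [cor_one_left, zero_add, add_zero]
  mul_one x := by
    refine Ext.ext (mul_one _) ?_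
    show x.cen + 0 + cor D hF x.img 1 = x.cen
    rw [cor_one_right, add_zero, add_zero]
  inv_mul_cancel x := by
    refine Ext.ext (inv_mul_cancel _) ?_
    show x.cen + cor D hF x.img⁻¹ x.img + x.cen + cor D hF x.img⁻¹ x.img = 0
    rw [add_assoc (x.cen + _), add_self_V D hF]

theorem img_mul (x y : Ext D hF) : (x * y).img = x.img * y.img := rfl

theorem cen_mul (x y : Ext D hF) : (x * y).cen = x.cen + y.cen + cor D hF x.img y.img := rfl

instance : Finite (Ext D hF) :=
  Finite.of_injective (fun x => (x.img, x.cen)) fun x y h =>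
    Ext.ext (congrArg Prod.fst h) (congrArg Prod.snd h)

variable (D hF)

/-- The projection. -/
noncomputable def proj : Ext D hF →* Cfsg.Sz F 1 where
  toFun := Ext.img
  map_one' := rfl
  map_mul' _ _ := rfl

theorem mem_center_of_img {x : Ext D hF} (hx : x.img = 1) : x ∈ Subgroup.center (Ext D hF) := by
  rw [Subgroup.mem_center_iff]
  intro y
  refine Ext.ext (by rw [img_mul, img_mul, hx, mul_one, one_mul]) ?_
  rw [cen_mul, cen_mul, hx, cor_one_left, cor_one_right, add_comm y.cen]

open scoped commutatorElement in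
theorem proj_stem : Function.Surjective (proj D hF) ∧ (proj D hF).ker ≤ Subgroup.center (Ext D hF) ∧
    (proj D hF).ker ≤ commutator (Ext D hF) := by
  refine ⟨fun g => ⟨⟨g, 0⟩, rfl⟩, fun x hx => mem_center_of_img D hF hx, ?_⟩
  intro x hx
  obtain ⟨w, hw⟩ := QuotientAddGroup.mk'_surjective (unitLine F) x.cen
  have hcm : gT D 0 1 * gT D w 0 = gT D w 0 * gT D 0 1 := by
    rw [gT_mul, gT_mul]; simp
  let z : Ext D hF := ⟨gT D 0 1, 0⟩
  let s : Ext D hF := ⟨gT D w 0, 0⟩
  have e : z * s = x * (s * z) := by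
    refine Ext.ext ?_ ?_
    · show gT D 0 1 * gT D w 0 = x.img * (gT D w 0 * gT D 0 1)
      rw [show x.img = 1 from hx, one_mul, hcm]
    · rw [cen_mul, cen_mul, cen_mul, show x.img = 1 from hx, cor_one_left, cor_gT, cor_gT]
      simp [phi, ← hw]
      show (0 : V F) + 0 + _ = _ + ((0 : V F) + 0)
      simp
  have : x = ⁅z, s⁆ := by
    rw [commutatorElement_def, e]; group
  rw [this]
  exact Subgroup.commutator_mem_commutator (Subgroup.mem_top _) (Subgroup.mem_top _)

/-- The kernel is the coefficient group. -/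
noncomputable def kerEquiv : (proj D hF).ker ≃* Multiplicative (V F) where
  toFun x := Multiplicative.ofAdd x.1.cen
  invFun v := ⟨⟨1, v.toAdd⟩, rfl⟩
  left_inv x := Subtype.ext (Ext.ext x.2.symm rfl)
  right_inv _ := rfl
  map_mul' x y := by
    show Multiplicative.ofAdd (x.1.cen + y.1.cen + cor D hF x.1.img y.1.img) = _
    rw [show x.1.img = 1 from x.2, cor_one_left, add_zero]
    rfl

end Cfsg.Agent.SchurSzEight
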