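import Cfsg.Agent.Lib.SchurSplit.Suzuki
import Cfsg.Agent.Lib.SchurMult.Cover
import Cfsg.Agent.Lib.SchurSzEight.Cocycle

/-!
The kernel of a stem extension of `Sz(8)` is an image of `F/{0,1}`.
-/

set_option autoImplicit false
set_option linter.unusedSectionVars false

namespace Cfsg.Agent.SchurSzEight

open Cfsg.Agent.Suzuki Cfsg.Agent.SchurSplit
open scoped commutatorElement

universe u

/-- Powers by the index land in the derived subgroup of the preimage. -/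
theorem pow_index_mem {E G : Type*} [Group E] [Finite E] [Group G] (π : E →* G)
    (hπ : Function.Surjective π) (hc : π.ker ≤ Subgroup.center E) (hd : π.ker ≤ commutator E)
    (S : Subgroup G) {v : E} (hv : v ∈ π.ker) : v ^ S.index ∈ ⁅S.comap π, S.comap π⁆ := by
  classical
  set W : Subgroup E := S.comap π with hW
  haveI : W.FiniteIndex := Subgroup.finiteIndex_of_finite
  let φ : W →* Abelianization W := Abelianization.of
  have h0 : MonoidHom.transfer φ v = 1 := Abelianization.commutator_subset_ker _ (hd hv)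
  have key : ∀ (k : ℕ) (g₀ : E), g₀⁻¹ * v ^ k * g₀ ∈ W → g₀⁻¹ * v ^ k * g₀ = v ^ k := by
    intro k g₀ _
    rw [Subgroup.mem_center_iff.1 (hc (pow_mem hv k)) g₀⁻¹, inv_mul_cancel_right]
  rw [MonoidHom.transfer_eq_pow φ v key, ← MonoidHom.mem_ker, Abelianization.ker_of] at h0
  have h3 := Subgroup.mem_map_of_mem W.subtype h0
  rw [Subgroup.map_subtype_commutator] at h3
  rw [← Subgroup.index_comap_of_surjective S hπ]
  exact h3

variable {F : Type u} [Field F] [Fintype F] (D : Dat F 1) (hF : Fintype.card F = 8)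

/-- The centre of the Sylow subgroup. -/
noncomputable def cenQ : Subgroup ↥(Cfsg.Sz F 1) where
  carrier := {g | ∃ b, g = gT D 0 b}
  one_mem' := ⟨0, (gT_zero D).symm⟩
  mul_mem' := by
    rintro _ _ ⟨b, rfl⟩ ⟨d, rfl⟩
    exact ⟨b + d, by rw [gT_mul, add_zero, map_zero, zero_mul, add_zero]⟩
  inv_mem' := by
    rintro _ ⟨b, rfl⟩
    exact ⟨b, by rw [gT_inv, map_zero, zero_mul, add_zero]⟩

include D hF

theorem exists_par : ∃ s : F, s ≠ 0 ∧ 1 + s ≠ 0 ∧ s ^ 2 + s + 1 ≠ 0 := by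
  classical
  obtain ⟨u, hu⟩ := exists_u D (hF' D hF)
  have htwo : (2 : F) = 0 := D.two
  have h1 : (u : F) ≠ 1 := fun h => hu (Units.ext h)
  refine ⟨u, u.ne_zero, fun h => h1 (by linear_combination h - htwo), fun h => h1 ?_⟩
  have h7 := pow_seven hF u.ne_zero
  linear_combination h7 - (((u : F) ^ 5 - (u : F) ^ 4 + (u : F) ^ 2 - (u : F))) * h

omit D in
theorem sq_root [CharP F 2] (x : F) (hx : x ≠ 0) : ∃ w : Fˣ, (w : F) ^ 2 = x := by
  obtain ⟨r, hr⟩ := FiniteField.isSquare_of_char_two (ringChar.eq F 2) x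
  have hr0 : r ≠ 0 := fun h => hx (by rw [hr, h, zero_mul])
  exact ⟨Units.mk0 r hr0, by rw [Units.val_mk0, pow_two, ← hr]⟩

/-- The preimage of the centre of the Sylow subgroup is abelian. -/
theorem cenQ_comm {E : Type u} [Group E] [Finite E] (π : E →* ↥(Cfsg.Sz F 1))
    (hπ : Function.Surjective π) (hck : π.ker ≤ Subgroup.center E) :
    ∀ x ∈ (cenQ D).comap π, ∀ y ∈ (cenQ D).comap π, x * y = y * x := by
  haveI := D.char2
  obtain ⟨s, hs, hs1, hcube⟩ := exists_par D hF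
  let Z := cenQ D
  have h0 := comap_of_torus π hπ hck Z (fun b : F => gT D 0 b)
    (fun a b => by show gT D 0 (a + b) = _; rw [gT_mul, add_zero, map_zero, zero_mul, add_zero])
    (fun g hg => by obtain ⟨b, rfl⟩ := hg; exact ⟨b, rfl⟩) s hs hcube ?_ ?_
  · intro x hx y hy
    refine commutatorElement_eq_one_iff_mul_comm.1 ?_
    have hmem : ⁅x, y⁆ ∈ ⁅Z.comap π, Z.comap π⁆ ⊓ π.ker := by
      refine ⟨Subgroup.commutator_mem_commutator hx hy, ?_⟩
      obtain ⟨b, hb⟩ := hx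
      obtain ⟨d, hd⟩ := hy
      show π ⁅x, y⁆ = 1
      rw [map_commutatorElement, hb, hd, commutatorElement_eq_one_iff_mul_comm, gT_mul, gT_mul,
        map_zero, zero_mul, add_zero, add_zero, add_zero, add_comm b d]
    rwa [h0, Subgroup.mem_bot] at hmem
  · obtain ⟨c, hc⟩ := squares_surjective D (hF' D hF) s
    have hc0 : c ≠ 0 := by
      intro h
      subst h
      simp only [map_zero, mul_zero] at hc
      exact hs hc.symm
    obtain ⟨w, hw⟩ := sq_root hF c hc0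
    refine ⟨gH D w, fun r => ?_⟩
    rw [gH_gT, mul_zero, ← map_pow, hw]
    exact congrArg (gT D 0) (by rw [← hc])
  · obtain ⟨c, hc⟩ := squares_surjective D (hF' D hF) (1 + s)
    have hc0 : c ≠ 0 := by
      intro h
      subst h
      simp only [map_zero, mul_zero] at hc
      exact hs1 hc.symm
    obtain ⟨w, hw⟩ := sq_root hF c hc0
    refine ⟨gH D w, fun r => ?_⟩
    rw [gH_gT, mul_zero, ← map_pow, hw]
    exact congrArg (gT D 0) (by rw [← hc])

/-- If lifts of the centre centralise the Sylow preimage, its derived subgroup misses the kernel. -/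
theorem derived_inf_ker {E : Type u} [Group E] [Finite E] (π : E →* ↥(Cfsg.Sz F 1))
    (hπ : Function.Surjective π) (hck : π.ker ≤ Subgroup.center E)
    (hk2 : ∀ v : E, π v = 1 → ∃ e : ℕ, v ^ (2 ^ e) = 1)
    (L Lz : F → E) (hL : ∀ a, π (L a) = gT D a 0) (hLz : ∀ b, π (Lz b) = gT D 0 b)
    (hγ : ∀ a b, ⁅L a, Lz b⁆ = 1) :
    ⁅(Q D).comap π, (Q D).comap π⁆ ⊓ π.ker = ⊥ := by
  classical
  haveI := D.char2
  have hF := hF' D hF
  have htwo : (2 : F) = 0 := D.two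
  obtain ⟨s, hs, hs1, hcube⟩ := exists_par D (by rw [hF]; norm_num)
  have hroot : ∀ x : F, x ≠ 0 → ∃ w : Fˣ, (w : F) ^ 2 = x := sq_root (by rw [hF]; norm_num)
  choose T hT using fun w : Fˣ => hπ (gH D w)
  have hcen : ∀ v : E, π v = 1 → ∀ x : E, Commute v x := fun v hv x =>
    (Subgroup.mem_center_iff.1 (hck (MonoidHom.mem_ker.2 hv)) x).symm
  have hker : ∀ {x y : E}, π x = π y → ∃ v, π v = 1 ∧ x = y * v := fun {x y} h =>
    ⟨y⁻¹ * x, by rw [map_mul, map_inv, h, inv_mul_cancel], (mul_inv_cancel_left _ _).symm⟩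
  let Z := cenQ D
  have hZ : ∀ x ∈ Z.comap π, ∀ y ∈ Z.comap π, x * y = y * x :=
    cenQ_comm D (by rw [hF]; norm_num) π hπ hck
  -- commutators of lifts with the central part
  let W : Subgroup E := Z.comap π
  letI : CommGroup W := { (inferInstance : Group W) with mul_comm := fun x y => Subtype.ext (hZ x.1 x.2 y.1 y.2) }
  have hWker : ∀ v, π v = 1 → v ∈ W := fun v hv => by
    show π v ∈ Z
    rw [hv]; exact Z.one_mem
  letI : CommGroup π.ker :=
    { (inferInstance : Group π.ker) with mul_comm := fun x y => Subtype.ext (hcen x.1 x.2 y.1).eq }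
  have hLW : ∀ b, Lz b ∈ W := fun b => ⟨b, hLz b⟩
  have hcomm1 : ∀ a b, π ⁅L a, Lz b⁆ = 1 := fun a b => by
    rw [map_commutatorElement, hL, hLz, commutatorElement_eq_one_iff_mul_comm, gT_mul, gT_mul]
    simp
  have hwell : ∀ (x y v w : E), π v = 1 → π w = 1 → ⁅x * v, y * w⁆ = ⁅x, y⁆ := by
    intro x y v w hv hw
    simp only [commutatorElement_def, mul_inv_rev]
    calc x * v * (y * w) * (v⁻¹ * x⁻¹) * (w⁻¹ * y⁻¹)
        = x * v * y * (w * (v⁻¹ * x⁻¹)) * w⁻¹ * y⁻¹ := by group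
      _ = x * v * y * ((v⁻¹ * x⁻¹) * w) * w⁻¹ * y⁻¹ := by rw [(hcen w hw _).eq]
      _ = x * (v * y) * v⁻¹ * x⁻¹ * y⁻¹ := by group
      _ = x * (y * v) * v⁻¹ * x⁻¹ * y⁻¹ := by rw [(hcen v hv _).eq]
      _ = x * y * x⁻¹ * y⁻¹ := by group
  have hwell' : ∀ {x x' y y' : E}, π x = π x' → π y = π y' → ⁅x, y⁆ = ⁅x', y'⁆ := by
    intro x x' y y' hx hy
    obtain ⟨v, hv, rfl⟩ := hker hx
    obtain ⟨w, hw, rfl⟩ := hker hy
    exact hwell _ _ v w hv hw
  set P : Subgroup E := (Q D).comap π with hP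
  have hform : ∀ x ∈ P, ∃ a, ∃ z ∈ W, x = L a * z := by
    rintro x ⟨a, b, hx⟩
    refine ⟨a, (L a)⁻¹ * x, ?_, (mul_inv_cancel_left _ _).symm⟩
    show π ((L a)⁻¹ * x) ∈ Z
    refine ⟨b, ?_⟩
    rw [map_mul, map_inv, hL, hx, inv_mul_eq_iff_eq_mul, gT_mul]
    simp
  have hWc : ∀ z ∈ W, ∀ a, Commute z (L a) := by
    intro z hz a
    obtain ⟨b, hb⟩ := hz
    obtain ⟨v, hv, rfl⟩ := hker (hb.trans (hLz b).symm)
    refine Commute.mul_left ?_ (hcen v hv _)
    exact (commutatorElement_eq_one_iff_mul_comm.1 ((hγ a b))).symm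
  have hδW : ∀ a c, ⁅L a, L c⁆ ∈ W := fun a c => by
    refine ⟨D.θ a * c + D.θ c * a, ?_⟩
    rw [map_commutatorElement, hL, hL]
    exact congrArg Subtype.val (qT_commutator D a 0 c 0)
  let δ : F → F → W := fun a c => ⟨⁅L a, L c⁆, hδW a c⟩
  have hWn : ∀ (w : Fˣ), ∀ z ∈ W, T w * z * (T w)⁻¹ ∈ W := by
    intro w z hz
    obtain ⟨b, hb⟩ := hz
    refine ⟨D.θ w ^ 2 * (w : F) ^ 2 * b, ?_⟩
    rw [map_mul, map_mul, map_inv, hT, hb, gH_gT, mul_zero]
  let Φ : Fˣ → W →* W := fun w =>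
    { toFun := fun z => ⟨T w * z * (T w)⁻¹, hWn w z z.2⟩
      map_one' := Subtype.ext (by simp)
      map_mul' := fun x y => Subtype.ext (by
        show T w * (x.1 * y.1) * (T w)⁻¹ = T w * x.1 * (T w)⁻¹ * (T w * y.1 * (T w)⁻¹)
        group) }
  let Ψ : W →* W :=
    { toFun := fun z => ∏ w : Fˣ, Φ w z
      map_one' := by simp
      map_mul' := fun x y => by simp [Finset.prod_mul_distrib] }
  have hΦδ : ∀ (w : Fˣ) a c, Φ w (δ a c) = δ ((w : F) ^ 2 * a) ((w : F) ^ 2 * c) := by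
    intro w a c
    apply Subtype.ext
    show T w * ⁅L a, L c⁆ * (T w)⁻¹ = ⁅L ((w : F) ^ 2 * a), L ((w : F) ^ 2 * c)⁆
    rw [hwell' (x := L ((w : F) ^ 2 * a)) (y := L ((w : F) ^ 2 * c))
      (x' := T w * L a * (T w)⁻¹) (y' := T w * L c * (T w)⁻¹)
      (by rw [map_mul, map_mul, map_inv, hT, hL, hL, gH_gT, mul_zero])
      (by rw [map_mul, map_mul, map_inv, hT, hL, hL, gH_gT, mul_zero])]
    simp only [commutatorElement_def]
    group
  have hδl : ∀ a b c, δ (a + b) c = δ a c * δ b c := by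
    intro a b c
    apply Subtype.ext
    show ⁅L (a + b), L c⁆ = ⁅L a, L c⁆ * ⁅L b, L c⁆
    obtain ⟨z, hzW, hz⟩ : ∃ z ∈ W, L (a + b) = L a * L b * z := by
      refine ⟨(L a * L b)⁻¹ * L (a + b), ?_, (mul_inv_cancel_left _ _).symm⟩
      show π ((L a * L b)⁻¹ * L (a + b)) ∈ Z
      refine ⟨D.θ a * b, ?_⟩
      rw [map_mul, map_inv, map_mul, hL, hL, hL, gT_mul, inv_mul_eq_iff_eq_mul, gT_mul]
      congr 1
      · ring
      · linear_combination (-(D.θ a * b)) * htwo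
    have e : ⁅L (a + b), L c⁆ = ⁅L a * L b, L c⁆ := by
      rw [hz]
      simp only [commutatorElement_def, mul_inv_rev]
      calc L a * L b * z * L c * (z⁻¹ * ((L b)⁻¹ * (L a)⁻¹)) * (L c)⁻¹
          = L a * L b * (z * L c) * z⁻¹ * (L b)⁻¹ * (L a)⁻¹ * (L c)⁻¹ := by group
        _ = _ := by rw [(hWc z hzW c).eq]; group
    rw [e, show ⁅L a * L b, L c⁆ = L a * ⁅L b, L c⁆ * (L a)⁻¹ * ⁅L a, L c⁆ by
        simp only [commutatorElement_def]; group,
      (hWc _ (hδW b c) a).symm.eq, mul_inv_cancel_right]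
    exact hZ _ (hδW b c) _ (hδW a c)
  have hδr : ∀ a b c, δ a (b + c) = δ a b * δ a c := by
    intro a b c
    have hs : ∀ x y, δ x y = (δ y x)⁻¹ := fun x y =>
      Subtype.ext (commutatorElement_inv (L y) (L x)).symm
    rw [hs, hδl, mul_inv, ← hs, ← hs]
  let ε : F → F → W := fun a c => Ψ (δ a c)
  have hεi : ∀ x : F, x ≠ 0 → ∀ a c, ε (x * a) (x * c) = ε a c := by
    intro x hx a c
    obtain ⟨v, hv⟩ := hroot x hx
    show ∏ w : Fˣ, Φ w (δ (x * a) (x * c)) = ∏ w : Fˣ, Φ w (δ a c)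
    simp only [hΦδ]
    refine Fintype.prod_equiv (Equiv.mulRight v) _ _ fun w => ?_
    simp only [Equiv.coe_mulRight, Units.val_mul, ← hv]
    congr 1 <;> ring
  have hεk : ∀ a c, π (ε a c : E) = 1 := by
    intro a c
    obtain ⟨e, he⟩ := (ε a c).2
    obtain ⟨v, hv⟩ := hroot s hs
    have hfix : Φ v (ε a c) = ε a c := by
      show Φ v (∏ w : Fˣ, Φ w (δ a c)) = ∏ w : Fˣ, Φ w (δ a c)
      rw [map_prod]
      refine Fintype.prod_equiv (Equiv.mulLeft v) _ _ fun w => ?_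
      simp only [hΦδ, Equiv.coe_mulLeft, Units.val_mul]
      congr 1 <;> ring
    have h2 := congrArg (fun z : W => π (z : E)) hfix
    change π (T v * (ε a c : E) * (T v)⁻¹) = π (ε a c : E) at h2
    rw [map_mul, map_mul, map_inv, hT, he, gH_gT, mul_zero] at h2
    have h3 := gT_center_inj D h2
    rw [hv, ← map_pow, hv] at h3
    have hne : D.θ s * s ≠ 1 := fun h => by
      have := scale_eq_one D hF hs h
      exact hs1 (by rw [this]; linear_combination htwo)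
    have h4 : (D.θ s * s - 1) * e = 0 := by rw [sub_mul, one_mul, h3, sub_self]
    rw [(mul_eq_zero.1 h4).resolve_left (sub_ne_zero.2 hne)] at he
    rw [he, gT_zero]
  have hε : ∀ a c, ε a c = 1 :=
    bilin_eq_one ε (fun a b c => by show Ψ _ = Ψ _ * Ψ _; rw [← map_mul, hδl])
      (fun a b c => by show Ψ _ = Ψ _ * Ψ _; rw [← map_mul, hδr]) hs hcube
      (hεi s hs) (hεi (1 + s) hs1)
  rw [eq_bot_iff]
  rintro x ⟨hx, hxk⟩
  have hxW : x ∈ (Ψ.ker).map W.subtype := by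
    refine (Subgroup.commutator_le.2 ?_) hx
    intro g hg k hk
    obtain ⟨a, z, hz, rfl⟩ := hform g hg
    obtain ⟨c, z', hz', rfl⟩ := hform k hk
    refine ⟨δ a c, hε a c, ?_⟩
    show ⁅L a, L c⁆ = ⁅L a * z, L c * z'⁆
    simp only [commutatorElement_def, mul_inv_rev]
    symm
    calc L a * z * (L c * z') * (z⁻¹ * (L a)⁻¹) * (z'⁻¹ * (L c)⁻¹)
        = L a * z * L c * (z' * z⁻¹) * (L a)⁻¹ * z'⁻¹ * (L c)⁻¹ := by group
      _ = L a * z * L c * z⁻¹ * (z' * (L a)⁻¹) * z'⁻¹ * (L c)⁻¹ := by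
        rw [show z' * z⁻¹ = z⁻¹ * z' from hZ _ hz' _ (W.inv_mem hz)]; group
      _ = L a * (z * L c) * z⁻¹ * (L a)⁻¹ * (L c)⁻¹ := by
        rw [((hWc z' hz' a).inv_right).eq]; group
      _ = L a * L c * (L a)⁻¹ * (L c)⁻¹ := by rw [(hWc z hz c).eq]; group
  obtain ⟨⟨y, hy⟩, hΨ, rfl⟩ := hxW
  have hk : π y = 1 := hxk
  have hpow : Ψ ⟨y, hy⟩ = (⟨y, hy⟩ : W) ^ Fintype.card Fˣ := by
    show ∏ w : Fˣ, Φ w ⟨y, hy⟩ = _
    rw [← Finset.card_univ, ← Finset.prod_const]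
    refine Finset.prod_congr rfl fun w _ => Subtype.ext ?_
    show T w * y * (T w)⁻¹ = y
    rw [(hcen y hk (T w)).symm.eq, mul_inv_cancel_right]
  replace hΨ : Ψ ⟨y, hy⟩ = 1 := MonoidHom.mem_ker.1 hΨ
  rw [hΨ] at hpow
  have h1 : y ^ Fintype.card Fˣ = 1 := by simpa using (congrArg Subtype.val hpow).symm
  have hodd : Odd (Fintype.card Fˣ) := by
    rw [Fintype.card_units, hF, pow_succ]
    have := Nat.one_le_two_pow (n := 2 * 1)
    exact ⟨2 ^ (2 * 1) - 1, by omega⟩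
  obtain ⟨k, hk'⟩ := hodd
  obtain ⟨e, he⟩ := hk2 y hk
  rw [Subgroup.mem_bot]
  show y = 1
  have hco : (Fintype.card Fˣ).Coprime (2 ^ e) :=
    Nat.Coprime.pow_right _ ((Nat.coprime_two_right).2 ⟨k, hk'⟩)
  have := (pow_gcd_eq_one (a := y)).mpr ⟨h1, he⟩
  rwa [hco, pow_one] at this

omit D hF in
/-- Commutators do not see central factors. -/
theorem comm_well {E G : Type*} [Group E] [Group G] (σ : E →* G)
    (hc : σ.ker ≤ Subgroup.center E) {x x' y y' : E} (hx : σ x = σ x') (hy : σ y = σ y') :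
    ⁅x, y⁆ = ⁅x', y'⁆ := by
  have key : ∀ {a a' : E}, σ a = σ a' → ∃ v ∈ Subgroup.center E, a = a' * v := fun {a a'} h =>
    ⟨a'⁻¹ * a, hc (by rw [MonoidHom.mem_ker, map_mul, map_inv, h, inv_mul_cancel]),
      (mul_inv_cancel_left _ _).symm⟩
  obtain ⟨v, hv, rfl⟩ := key hx
  obtain ⟨w, hw, rfl⟩ := key hy
  exact Cfsg.Agent.SchurMult.commutator_mul_central _ _ hv hw

/-- The kernel of a stem extension is an image of `F/{0,1}`. -/
theorem kernel_image {E : Type u} [Group E] [Finite E] (σ : E →* ↥(Cfsg.Sz F 1))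
    (hσ : Cfsg.IsStemExtension σ) :
    ∃ π : Multiplicative (V F) →* σ.ker, Function.Surjective π := by
  classical
  obtain ⟨hsur, hck, hd⟩ := hσ
  haveI := D.char2
  have hcen : ∀ v : E, σ v = 1 → ∀ x : E, Commute v x := fun v hv x =>
    (Subgroup.mem_center_iff.1 (hck (MonoidHom.mem_ker.2 hv)) x).symm
  -- the kernel is a 2-group
  have hk2 : ∀ v : E, σ v = 1 → ∃ e : ℕ, v ^ (2 ^ e) = 1 := by
    intro v hv
    rcases Nat.eq_two_pow_or_exists_odd_prime_and_dvd (orderOf v) with ⟨e, he⟩ | ⟨p, hp, hdv, hodd⟩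
    · exact ⟨e, by rw [← he]; exact pow_orderOf_eq_one v⟩
    · exfalso
      haveI := Fact.mk hp
      have hp2 : p ≠ 2 := fun h => by subst h; exact absurd hodd (by decide)
      set w := v ^ (orderOf v / p) with hwdef
      have hw : orderOf w = p := orderOf_pow_orderOf_div (orderOf_pos v).ne' hdv
      have hwk : w ∈ σ.ker := pow_mem (MonoidHom.mem_ker.2 hv) _
      obtain ⟨S⟩ : Nonempty (Sylow p ↥(Cfsg.Sz F 1)) := inferInstance
      haveI := sylow_odd_cyclic D (hF' D hF) hp2 S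
      have hm : w ^ (S : Subgroup ↥(Cfsg.Sz F 1)).index ∈
          ⁅(S : Subgroup ↥(Cfsg.Sz F 1)).comap σ, (S : Subgroup ↥(Cfsg.Sz F 1)).comap σ⁆ ⊓ σ.ker :=
        ⟨pow_index_mem σ hsur hck hd _ hwk, pow_mem hwk _⟩
      rw [comap_of_cyclic σ hsur hck _, Subgroup.mem_bot, ← orderOf_dvd_iff_pow_eq_one, hw] at hm
      exact S.not_dvd_index hm
  choose L hL using fun a : F => hsur (gT D a 0)
  choose Lz hLz using fun b : F => hsur (gT D 0 b)
  have hW : ∀ z : E, (∃ b, σ z = gT D 0 b) → z ∈ (cenQ D).comap σ := fun z hz => hz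
  have hcm : ∀ a b, σ ⁅L a, Lz b⁆ = 1 := fun a b => by
    rw [map_commutatorElement, hL, hLz, commutatorElement_eq_one_iff_mul_comm, gT_mul, gT_mul]
    simp
  have haddl : ∀ a b c, ⁅L (a + b), Lz c⁆ = ⁅L a, Lz c⁆ * ⁅L b, Lz c⁆ := by
    intro a b c
    obtain ⟨z, hzW, hz⟩ : ∃ z ∈ (cenQ D).comap σ, L (a + b) = L a * L b * z := by
      refine ⟨(L a * L b)⁻¹ * L (a + b), hW _ ⟨D.θ a * b, ?_⟩, (mul_inv_cancel_left _ _).symm⟩
      rw [map_mul, map_inv, map_mul, hL, hL, hL, gT_mul, inv_mul_eq_iff_eq_mul, gT_mul]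
      congr 1
      · ring
      · linear_combination (-(D.θ a * b)) * D.two
    have hzc := cenQ_comm D hF σ hsur hck z hzW (Lz c) (hW _ ⟨c, hLz c⟩)
    have e : ⁅L (a + b), Lz c⁆ = ⁅L a * L b, Lz c⁆ := by
      rw [hz]
      simp only [commutatorElement_def, mul_inv_rev]
      calc L a * L b * z * Lz c * (z⁻¹ * ((L b)⁻¹ * (L a)⁻¹)) * (Lz c)⁻¹
          = L a * L b * (z * Lz c) * z⁻¹ * (L b)⁻¹ * (L a)⁻¹ * (Lz c)⁻¹ := by group
        _ = _ := by rw [hzc]; group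
    rw [e, show ⁅L a * L b, Lz c⁆ = L a * ⁅L b, Lz c⁆ * (L a)⁻¹ * ⁅L a, Lz c⁆ by
        simp only [commutatorElement_def]; group,
      (hcen _ (hcm b c) (L a)).symm.eq, mul_inv_cancel_right, (hcen _ (hcm b c) _).eq]
  have hscale : ∀ (t : F), t ≠ 0 → ∀ a b, ⁅L (t * a), Lz (t ^ 5 * b)⁆ = ⁅L a, Lz b⁆ := by
    intro t ht a b
    obtain ⟨w, hw⟩ := sq_root hF t ht
    obtain ⟨T, hT⟩ := hsur (gH D w)
    rw [comm_well σ hck (x' := T * L a * T⁻¹) (y' := T * Lz b * T⁻¹) ?_ ?_,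
      show ⁅T * L a * T⁻¹, T * Lz b * T⁻¹⁆ = T * ⁅L a, Lz b⁆ * T⁻¹ by
        simp only [commutatorElement_def]; group,
      (hcen _ (hcm a b) T).symm.eq, mul_inv_cancel_right]
    · rw [map_mul, map_mul, map_inv, hT, hL, hL, gH_gT, hw, mul_zero]
    · rw [map_mul, map_mul, map_inv, hT, hLz, hLz, gH_gT, mul_zero]
      congr 1
      rw [← map_pow, hw, theta_four D]
      ring
  have hone : ⁅L 1, Lz 1⁆ = 1 := by
    rw [comm_well σ hck (x' := L 1) (y' := L 1 * L 1) rfl ?_,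
      commutatorElement_eq_one_iff_mul_comm, mul_assoc]
    rw [map_mul, hL, hLz, gT_mul]
    simp [theta_four D, D.add_self]
  -- the linear map
  letI : CommGroup σ.ker :=
    { (inferInstance : Group σ.ker) with mul_comm := fun x y => Subtype.ext (hcen x.1 x.2 y.1).eq }
  let lam : F →+ Additive σ.ker :=
    AddMonoidHom.mk' (fun w => Additive.ofMul (⟨⁅L w, Lz 1⁆, hcm w 1⟩ : σ.ker))
      fun a b => congrArg Additive.ofMul (Subtype.ext (haddl a b 1))
  have hker : unitLine F ≤ lam.ker := by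
    rw [AddSubgroup.zmultiples_le]
    exact congrArg Additive.ofMul (Subtype.ext hone)
  let lamV : V F →+ Additive σ.ker := QuotientAddGroup.lift (unitLine F) lam hker
  let π : Multiplicative (V F) →* σ.ker := AddMonoidHom.toMultiplicativeLeft lamV
  refine ⟨π, ?_⟩
  let M : Subgroup E := π.range.map σ.ker.subtype
  have hMk : M ≤ σ.ker := Subgroup.map_subtype_le _
  haveI : M.Normal := ⟨fun x hx g => by
    rwa [(hcen x (hMk hx) g).symm.eq, mul_inv_cancel_right]⟩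
  have hγM : ∀ a b, ⁅L a, Lz b⁆ ∈ M := by
    intro a b
    have hlam : ∀ w, ⁅L w, Lz 1⁆ ∈ M := fun w =>
      ⟨π (Multiplicative.ofAdd (pr w)), ⟨_, rfl⟩, rfl⟩
    rcases eq_or_ne b 0 with rfl | hb
    · have e : ⁅L a, Lz (0 : F)⁆ = 1 := by
        rw [comm_well σ hck (x' := L a) (y' := 1) rfl (by rw [hLz, gT_zero, map_one]),
          commutatorElement_one_right]
      rw [e]; exact one_mem M
    · have h7 := pow_seven hF hb
      have e := hscale (b ^ 3) (pow_ne_zero _ hb) ((b ^ 3)⁻¹ * a) 1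
      rw [mul_inv_cancel_left₀ (pow_ne_zero _ hb), mul_one,
        show (b ^ 3) ^ 5 = b by linear_combination (b ^ 8 + b) * h7] at e
      rw [e]
      exact hlam _
  let q : E →* E ⧸ M := QuotientGroup.mk' M
  let σ' : E ⧸ M →* ↥(Cfsg.Sz F 1) := QuotientGroup.lift M σ hMk
  have hk' : ∀ x : E, σ' (q x) = σ x := fun x => rfl
  have hbot : ⁅(Q D).comap σ', (Q D).comap σ'⁆ ⊓ σ'.ker = ⊥ := by
    refine derived_inf_ker D hF σ' (fun g => ?_) ?_ ?_ (fun a => q (L a)) (fun b => q (Lz b))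
      (fun a => hL a) (fun b => hLz b) fun a b => ?_
    · obtain ⟨x, hx⟩ := hsur g
      exact ⟨q x, hx⟩
    · intro y hy
      obtain ⟨x, rfl⟩ := QuotientGroup.mk'_surjective M y
      rw [Subgroup.mem_center_iff]
      intro y'
      obtain ⟨x', rfl⟩ := QuotientGroup.mk'_surjective M y'
      rw [← map_mul, ← map_mul, (hcen x hy x').eq]
    · intro y hy
      obtain ⟨x, rfl⟩ := QuotientGroup.mk'_surjective M y
      obtain ⟨e, he⟩ := hk2 x hy
      exact ⟨e, by rw [← map_pow, he, map_one]⟩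
    · show ⁅q (L a), q (Lz b)⁆ = 1
      rw [← map_commutatorElement]
      exact (QuotientGroup.eq_one_iff _).2 (hγM a b)
  intro x
  suffices hxM : (x : E) ∈ M by
    obtain ⟨y, ⟨z, rfl⟩, hy⟩ := hxM
    exact ⟨z, Subtype.ext hy⟩
  obtain ⟨e, he⟩ := hk2 x x.2
  have hm := pow_index_mem σ hsur hck hd (Q D) x.2
  have hx' : (x : E) ∈ ⁅(Q D).comap σ, (Q D).comap σ⁆ := by
    set n := (Q D).index
    have hodd : Nat.Coprime n (2 ^ e) := Nat.Coprime.pow_right _
      (((Nat.prime_two.coprime_iff_not_dvd).2 (not_dvd_index_Q D (hF' D hF))).symm)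
    obtain ⟨k, hk⟩ := exists_pow_eq_self_of_coprime
      (hodd.coprime_dvd_right (orderOf_dvd_of_pow_eq_one he))
    rw [← hk]
    exact pow_mem hm _
  have hq : q (x : E) ∈ ⁅(Q D).comap σ', (Q D).comap σ'⁆ ⊓ σ'.ker := by
    refine ⟨?_, x.2⟩
    have h1 := Subgroup.mem_map_of_mem q hx'
    rw [Subgroup.map_commutator] at h1
    exact Subgroup.commutator_mono (Subgroup.map_le_iff_le_comap.2 fun z hz => hz)
      (Subgroup.map_le_iff_le_comap.2 fun z hz => hz) h1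
  rw [hbot, Subgroup.mem_bot] at hq
  exact (QuotientGroup.eq_one_iff _).1 hq

end Cfsg.Agent.SchurSzEight
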